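import Groth.Agent.Lib.RelAmple18.Twist
import Groth.Agent.Lib.RelAmple18.Compl
import Groth.Agent.Lib.RelAmple18.Ops
import Groth.Agent.Lib.PicFormalH7.Glue
import Groth.Agent.Lib.KCoh4.Loc
import Groth.Prelude.Def_MoreMor

/-!
# A scheme made of two clopen pieces with ample families has an ample family
-/

set_option autoImplicit false
set_option linter.style.haveILetI false
set_option backward.isDefEq.respectTransparency false
set_option backward.isDefEq.respectTransparency.types false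

universe u

open CategoryTheory CategoryTheory.Limits AlgebraicGeometry TopologicalSpace Opposite

namespace Groth.Agent.AmpleCover4

variable {X : Scheme.{u}}

theorem exists_extend_invertible {A B : X.Opens} (h : IsCompl A B) (L : (A : Scheme.{u}).Modules)
    (hL : PicF.IsInvertible L) :
    ∃ E : X.Modules, PicF.IsInvertible E ∧ Nonempty (E.restrict A.ι ≅ L) := by
  haveI : IsEmpty (⊥ : X.Opens).toScheme := ⟨fun x => x.2.elim⟩
  let e : L.restrict (X.homOfLE (bot_le : (⊥ : X.Opens) ≤ A)) ≅ Coh.structureModule ((⊥ : X.Opens) : Scheme.{u}) :=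
    (KCoh4.isZero_of_stalks fun x => isEmptyElim x).iso (KCoh4.isZero_of_stalks fun x => isEmptyElim x)
  obtain ⟨L', hL', ⟨e'⟩⟩ := PicFormalH7.exists_glue_triv A B ⊥ bot_le bot_le h.inf_eq_bot.le L hL e
  haveI : IsIso (A ⊔ B).ι := by
    have : Epi (A ⊔ B).ι.base := by
      rw [TopCat.epi_iff_surjective]
      exact fun x => ⟨⟨x, h.sup_eq_top.ge trivial⟩, rfl⟩
    exact IsOpenImmersion.isIso _
  have hι : A.ι ≫ inv (A ⊔ B).ι = X.homOfLE (le_sup_left : A ≤ A ⊔ B) := by
    rw [← cancel_mono (A ⊔ B).ι, Category.assoc, IsIso.inv_hom_id, Category.comp_id, X.homOfLE_ι]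
  refine ⟨(Scheme.Modules.pullback (inv (A ⊔ B).ι)).obj L', PicLoc.isInvertible_pullback _ hL', ⟨?_⟩⟩
  exact (Scheme.Modules.restrictFunctorIsoPullback A.ι).app _ ≪≫
    (Scheme.Modules.pullbackComp A.ι (inv (A ⊔ B).ι)).app L' ≪≫ (Scheme.Modules.pullbackCongr hι).app L' ≪≫
    ((Scheme.Modules.restrictFunctorIsoPullback (X.homOfLE (le_sup_left : A ≤ A ⊔ B))).app L').symm ≪≫ e'

theorem exists_loc_of_locus [CompactSpace X] [QuasiSeparatedSpace X]
    (σ : Coh.structureModule X ⟶ Coh.structureModule X) {B : X.Opens}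
    (h : IsCompl (CohB1.genLocus (Coh.structureModule X) σ) B)
    (hA : MoreMor.HasAmpleFamily (CohB1.genLocus (Coh.structureModule X) σ : Scheme.{u}))
    (x : CohB1.genLocus (Coh.structureModule X) σ) :
    ∃ (L : X.Modules) (n : ℕ) (s : Coh.structureModule X ⟶ CohB1.tensorPow L n),
      PicF.IsInvertible L ∧ 1 ≤ n ∧ x.1 ∈ CohB1.genLocus (CohB1.tensorPow L n) s ∧
        IsAffineOpen (CohB1.genLocus (CohB1.tensorPow L n) s) := by
  obtain ⟨L, n, s, hL, -, hxs, haff⟩ := hA.2 x
  obtain ⟨E, hE, ⟨e⟩⟩ := exists_extend_invertible h _ (M2.isInvertible_tensorPow hL n)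
  obtain ⟨q₀, hq⟩ := RA.exists_locus_extend (PicLoc.isInvertible_structureModule X) hE σ (s ≫ e.inv)
  obtain ⟨t, ht⟩ := hq q₀ le_rfl
  rw [show s ≫ e.inv = s ≫ e.symm.hom from rfl, Amp.genLocus_comp_iso] at ht
  refine ⟨_, 1, t ≫ (M2.tensorPowOne _).symm.hom,
    M2.isInvertible_tensor hE (M2.isInvertible_tensorPow (PicLoc.isInvertible_structureModule X) q₀), le_rfl, ?_, ?_⟩
  · rw [Amp.genLocus_comp_iso, ht]; exact ⟨x, hxs, rfl⟩
  · rw [Amp.genLocus_comp_iso, ht]; exact haff.image_of_isOpenImmersion _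

theorem exists_sec (g : Γ(X, ⊤)) : ∃ σ : Coh.structureModule X ⟶ Coh.structureModule X, Amp.gval σ = g :=
  ⟨M1.secHom (M := Coh.structureModule X) g, M1.secHom_app_one (M := Coh.structureModule X) g⟩

theorem genLocus_eq (σ : Coh.structureModule X ⟶ Coh.structureModule X) (g : Γ(X, ⊤)) (h : Amp.gval σ = g) :
    CohB1.genLocus (Coh.structureModule X) σ = X.basicOpen g := by
  subst h; exact RA.genLocus_structureModule σ

theorem exists_loc_of_clopen [CompactSpace X] [QuasiSeparatedSpace X] {A B : X.Opens} (h : IsCompl A B)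
    (hA : MoreMor.HasAmpleFamily (A : Scheme.{u})) (x : A) :
    ∃ (L : X.Modules) (n : ℕ) (s : Coh.structureModule X ⟶ CohB1.tensorPow L n),
      PicF.IsInvertible L ∧ 1 ≤ n ∧ x.1 ∈ CohB1.genLocus (CohB1.tensorPow L n) s ∧
        IsAffineOpen (CohB1.genLocus (CohB1.tensorPow L n) s) := by
  obtain ⟨g, hg⟩ := RA.exists_basicOpen_eq_of_isCompl h
  obtain ⟨σ, hσg⟩ := exists_sec g
  have hσ : CohB1.genLocus (Coh.structureModule X) σ = A := (genLocus_eq σ g hσg).trans hg
  subst hσ
  exact exists_loc_of_locus σ h hA x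

theorem hasAmpleFamily_of_isCompl [CompactSpace X] [QuasiSeparatedSpace X] {A B : X.Opens} (h : IsCompl A B)
    (hA : MoreMor.HasAmpleFamily (A : Scheme.{u})) (hB : MoreMor.HasAmpleFamily (B : Scheme.{u})) :
    MoreMor.HasAmpleFamily X := by
  refine ⟨inferInstance, fun x => ?_⟩
  rcases h.sup_eq_top.ge (show x ∈ (⊤ : X.Opens) from trivial) with hx | hx
  · exact exists_loc_of_clopen h hA ⟨x, hx⟩
  · exact exists_loc_of_clopen h.symm hB ⟨x, hx⟩

end Groth.Agent.AmpleCover4
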