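import Mathlib.AlgebraicGeometry.Morphisms.Proper
import Mathlib.AlgebraicGeometry.Morphisms.Finite
import Mathlib.AlgebraicGeometry.Limits

/-!
# A finite disjoint union of proper morphisms is proper
-/

set_option autoImplicit false
universe u

open CategoryTheory CategoryTheory.Limits AlgebraicGeometry TopologicalSpace

namespace Groth.Agent.AmpleCover4

variable {X A B : Scheme.{u}}

theorem isProper_coprodDesc (a : A ⟶ X) (b : B ⟶ X) [IsProper a] [IsProper b] : IsProper (coprod.desc a b) := by
  haveI : IsProper (coprod.map a b) :=
    IsZariskiLocalAtTarget.coprodMap (P := @IsProper) a b inferInstance inferInstance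
  haveI : IsFinite (coprod.desc (𝟙 X) (𝟙 X)) := inferInstance
  rw [show coprod.desc a b = coprod.map a b ≫ coprod.desc (𝟙 X) (𝟙 X) by simp]
  infer_instance

end Groth.Agent.AmpleCover4
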