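import Groth.Agent.Lib.AmpleCover4.Clopen
import Groth.Agent.Lib.AmpleCover4.Proper
import Groth.Agent.Lib.Nagata4.Basics
import Groth.Agent.S7197
import Groth.Agent.S7184

/-!
# Completely decomposed proper covers with ample families
-/

set_option autoImplicit false
set_option linter.style.haveILetI false
set_option backward.isDefEq.respectTransparency false

universe u

open CategoryTheory CategoryTheory.Limits AlgebraicGeometry TopologicalSpace

namespace Groth.Agent.AmpleCover4

variable {X : Scheme.{u}}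

/-- `f` is completely decomposed over the points of `Z`. -/
def CdOn {Y : Scheme.{u}} (f : Y ⟶ X) (Z : Set X) : Prop :=
  ∀ x ∈ Z, ∃ y : Y, f y = x ∧ Function.Bijective (f.residueFieldMap y)

theorem hasAmpleFamily_of_iso {A B : Scheme.{u}} (e : A ≅ B) (h : MoreMor.HasAmpleFamily B) : MoreMor.HasAmpleFamily A :=
  Groth.Agent.S7184.result e.hom (Or.inl inferInstance) h

theorem bijective_residue_comp {A B C : Scheme.{u}} (f : A ⟶ B) (g : B ⟶ C) (a : A)
    (hf : Function.Bijective (f.residueFieldMap a)) (hg : Function.Bijective (g.residueFieldMap (f a))) :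
    Function.Bijective ((f ≫ g).residueFieldMap a) := by
  rw [Scheme.residueFieldMap_comp]
  exact hf.comp hg

theorem bijective_residue_of_comp {A B C : Scheme.{u}} (f : A ⟶ B) (g : B ⟶ C) (a : A)
    (hf : Function.Bijective (f.residueFieldMap a)) (h : Function.Bijective ((f ≫ g).residueFieldMap a)) :
    Function.Bijective (g.residueFieldMap (f a)) := by
  rw [Scheme.residueFieldMap_comp] at h
  exact (Function.Bijective.of_comp_iff' hf _).1 h

theorem bijective_residue_congr {A B : Scheme.{u}} {f g : A ⟶ B} (e : f = g) (a : A)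
    (h : Function.Bijective (f.residueFieldMap a)) : Function.Bijective (g.residueFieldMap a) := e ▸ h

theorem bijective_residue_openImmersion {A B : Scheme.{u}} (f : A ⟶ B) [IsOpenImmersion f] (a : A) :
    Function.Bijective (f.residueFieldMap a) := ConcreteCategory.bijective_of_isIso _

theorem bijective_residue_closedImmersion {A B : Scheme.{u}} (f : A ⟶ B) [IsClosedImmersion f] (a : A) :
    Function.Bijective (f.residueFieldMap a) :=
  ⟨RingHom.injective _, Ideal.Quotient.lift_surjective_of_surjective _ _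
    (Ideal.Quotient.mk_surjective.comp (f.stalkMap_surjective a))⟩

theorem exists_cdCover [IsNoetherian X] (Z : Closeds X) :
    ∃ (Y : Scheme.{u}) (f : Y ⟶ X), IsProper f ∧ MoreMor.HasAmpleFamily Y ∧ CdOn f (Z : Set X) := by
  induction Z using WellFoundedLT.induction with
  | ind Z ih =>
  rcases (Z : Set X).eq_empty_or_nonempty with hZ | hZ
  · refine ⟨∅, Scheme.emptyTo X, inferInstance, ⟨inferInstance, fun x => isEmptyElim x⟩, fun x hx => ?_⟩
    rw [hZ] at hx
    exact hx.elim
  let I := Scheme.IdealSheafData.vanishingIdeal (X := X) Z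
  have hI : (I.support : Set X) = Z := Scheme.IdealSheafData.coe_support_vanishingIdeal _
  let i := I.subschemeι
  have hi : Set.range i = (Z : Set X) := by rw [Scheme.IdealSheafData.range_subschemeι, hI]
  haveI : IsLocallyNoetherian I.subscheme := LocallyOfFiniteType.isLocallyNoetherian i
  haveI : CompactSpace I.subscheme := QuasiCompact.compactSpace_of_compactSpace i
  haveI : IsNoetherian I.subscheme := ⟨⟩
  haveI : Nonempty I.subscheme := by
    obtain ⟨x, hx⟩ := hZ
    obtain ⟨z, -⟩ := hi.ge hx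
    exact ⟨z⟩
  obtain ⟨U, J, Z', b, -, hUd, hJ, hb, hamp⟩ :=
    Groth.Agent.S7197.result I.subscheme (NoetherianSpace.finite_irreducibleComponents)
  haveI : IsProper b := BlowUpExist.isProper hJ.1 hb
  obtain ⟨k, hk, hkb, -⟩ := Nagata4.exists_lift U.ι hb (by rw [Scheme.Opens.opensRange_ι]; exact hJ.2)
  let Z₁ : Closeds X := ⟨i '' (U : Set I.subscheme)ᶜ, i.isClosedEmbedding.isClosedMap _ U.2.isClosed_compl⟩
  have hlt : Z₁ < Z := by
    refine lt_of_le_of_ne (fun x hx => ?_) fun he => ?_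
    · obtain ⟨z, -, rfl⟩ := hx
      exact hi.le ⟨z, rfl⟩
    · obtain ⟨z, hz⟩ := hUd.nonempty
      have h1 : i z ∈ (Z₁ : Set X) := by rw [he]; exact hi.le ⟨z, rfl⟩
      obtain ⟨w, hw, hwz⟩ := h1
      exact hw (i.isClosedEmbedding.injective hwz ▸ hz)
  obtain ⟨Y₁, f₁, hf₁, hamp₁, hcd₁⟩ := ih Z₁ hlt
  haveI : IsProper (coprod.desc (b ≫ i) f₁) := isProper_coprodDesc _ _
  haveI : IsLocallyNoetherian (Z' ⨿ Y₁ : Scheme.{u}) := LocallyOfFiniteType.isLocallyNoetherian (coprod.desc (b ≫ i) f₁)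
  haveI : CompactSpace (Z' ⨿ Y₁ : Scheme.{u}) := QuasiCompact.compactSpace_of_compactSpace (coprod.desc (b ≫ i) f₁)
  haveI : IsNoetherian (Z' ⨿ Y₁ : Scheme.{u}) := ⟨⟩
  refine ⟨Z' ⨿ Y₁, coprod.desc (b ≫ i) f₁, inferInstance,
    hasAmpleFamily_of_isCompl (AlgebraicGeometry.isCompl_opensRange_inl_inr Z' Y₁)
      (hasAmpleFamily_of_iso (coprod.inl : Z' ⟶ Z' ⨿ Y₁).isoOpensRange.symm hamp)
      (hasAmpleFamily_of_iso (coprod.inr : Y₁ ⟶ Z' ⨿ Y₁).isoOpensRange.symm hamp₁), fun x hx => ?_⟩
  obtain ⟨z, rfl⟩ := hi.ge hx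
  by_cases hz : z ∈ U
  · have hkz : b (k ⟨z, hz⟩) = z := by rw [← Scheme.Hom.comp_apply, hkb]; rfl
    refine ⟨(coprod.inl : Z' ⟶ Z' ⨿ Y₁) (k ⟨z, hz⟩), ?_, ?_⟩
    · rw [← Scheme.Hom.comp_apply, coprod.inl_desc, Scheme.Hom.comp_apply, hkz]
    · refine bijective_residue_of_comp (coprod.inl : Z' ⟶ Z' ⨿ Y₁) _ _ (bijective_residue_openImmersion _ _)
        (bijective_residue_congr (coprod.inl_desc (b ≫ i) f₁).symm _ (bijective_residue_comp b i _ ?_
          (bijective_residue_closedImmersion i _)))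
      exact bijective_residue_of_comp k b ⟨z, hz⟩ (bijective_residue_openImmersion _ _)
        (bijective_residue_congr hkb.symm _ (bijective_residue_openImmersion _ _))
  · obtain ⟨y, hy, hbij⟩ := hcd₁ (i z) ⟨z, hz, rfl⟩
    refine ⟨(coprod.inr : Y₁ ⟶ Z' ⨿ Y₁) y, by rw [← Scheme.Hom.comp_apply, coprod.inr_desc, hy], ?_⟩
    exact bijective_residue_of_comp (coprod.inr : Y₁ ⟶ Z' ⨿ Y₁) _ _ (bijective_residue_openImmersion _ _)
      (bijective_residue_congr (coprod.inr_desc (b ≫ i) f₁).symm _ hbij)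

end Groth.Agent.AmpleCover4
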